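import Mathlib
import Cfsg.Agent.Lib.Leech.Tri.McLStab

/-!
Explicit vectors and code masks for the stabiliser of a minimal vector.
-/

set_option autoImplicit false

namespace Cfsg.Lib.Leech.Tri

open Cfsg Cfsg.Lib.Golay Cfsg.Lib.Leech

local notation "CC" => supports (golayCode : Set (GolayPt → ZMod 2))

/-- Octads avoiding the two points, each with a disjoint octad through the first but not the second. -/
def co2Basis : List (ℕ × ℕ) := [(10558, 8999616), (21116, 8989058), (36294, 9323032), (72588, 8937586),
  (138790, 8773776), (267634, 9652360), (525274, 8484900), (1050548, 8581192), (2101096, 8622214),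
  (4202192, 8855820)]

/-- The code masks avoiding the two points. -/
def avoidMasks : List ℕ := (spanL codeGens).filter fun n => !n.testBit 23 && !n.testBit 0

set_option maxRecDepth 100000 in
theorem co2Basis_check : ∀ q ∈ co2Basis, inCode q.1 = true ∧ inCode q.2 = true ∧ q.1 &&& q.2 = 0 ∧
    q.2.testBit 23 = true ∧ q.2.testBit 0 = false ∧ pop q.2 = 8 ∧ q.1.testBit 23 = false ∧ q.1.testBit 0 = false := by
  decide +kernel

set_option maxRecDepth 100000 in
theorem avoid_span : (avoidMasks.all fun n => (spanL (co2Basis.map Prod.fst)).contains n) = true := by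
  decide +kernel

set_option maxRecDepth 100000 in
theorem avoid_card : avoidMasks.length = 1024 := by decide +kernel

theorem avoid_nodup : (spanL codeGens).Nodup → avoidMasks.Nodup := fun h => h.filter _

/-- The mask of an octad through both points. -/
def c0Mask : ℕ := 8391797

/-- The linking vectors. -/
def linkList1 : List ℤ :=
  [-3, -1, -1, -1, -1, -1, 1, 1, -1, 1, 1, -1, 1, -1, 1, 1, 1, 1, 1, 1, 1, 1, 1, 1]
/-- The linking vectors. -/
def linkList2 : List ℤ :=
  [-3, -1, 1, 1, 1, 1, -1, 1, -1, -1, 1, -1, -1, -1, -1, 1, 1, 1, 1, 1, 1, 1, 1, 1]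
/-- The vector with twos. -/
def twoList : List ℤ := [-2, -2, 2, 2, 2, 0, 0, 2, 0, 0, 2, 0, 2, 0, 0, 0, 0, 0, 0, 0, 0, 0, 0, 0]
/-- The odd vector with its three away from the two points. -/
def oddList : List ℤ := List.map (fun i : ℕ =>
  (if i = 1 then (-3 : ℤ) else 1) * (if c0Mask.testBit i then -1 else 1)) (List.range 24)

set_option maxRecDepth 100000 in
theorem co2Lists_check : (∀ l ∈ [linkList1, linkList2, twoList, oddList],
      CheckVec (ofList l) ∧ sqNorm (ofList l) = 32 ∧ 4 * ofList l ptA + 4 * ofList l ptB = -8) ∧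
    inCode c0Mask = true ∧ c0Mask.testBit 23 = true ∧ c0Mask.testBit 0 = true ∧ c0Mask.testBit 1 = false := by
  decide +kernel

end Cfsg.Lib.Leech.Tri
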