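import Mathlib

/-! Certificates for the stabiliser of a triangle (computed offline). -/

namespace Cfsg.Lib.Leech.Tri

/-- Two permutations fixing the points numbered 23, 0 and 1. -/
def triGens : List (List ℕ) := [[0, 1, 20, 10, 19, 9, 21, 8, 14, 6, 18, 12, 7, 4, 15, 22, 3, 2, 13, 16, 5, 17, 11, 23],
  [0, 1, 9, 22, 7, 19, 13, 21, 2, 12, 4, 10, 20, 16, 8, 6, 3, 14, 15, 11, 17, 5, 18, 23]]

/-- Two starts with their layers. -/
def triOctCerts : List (ℕ × List (List (ℕ × ℕ))) := [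
  (10305542, [
    [
      (0,0), (1,0)],
    [
      (0,0), (1,0), (0,1)],
    [
      (0,0), (1,0), (0,1), (1,1), (0,2), (1,2)],
    [
      (0,0), (1,0), (0,1), (0,2), (1,3), (0,4), (1,4), (0,5), (1,5)],
    [
      (0,0), (1,1), (0,2), (0,3), (1,3), (1,4), (0,5), (0,6), (0,7), (0,8), (1,8)],
    [
      (0,0), (1,0), (0,1), (0,2), (0,4), (1,4), (0,5), (1,5), (0,6), (1,6), (0,7), (1,7), (1,8),
      (0,9)],
    [
      (0,2), (1,3), (0,4), (0,5), (0,6), (1,9)],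
    [
      (0,1), (1,3), (0,4), (0,5)]]),
  (1302533, [
    [
      (0,0), (1,0)],
    [
      (0,0), (1,0), (0,1), (1,1)],
    [
      (0,0), (1,0), (0,1), (1,1), (0,2), (1,2), (0,3), (1,3)],
    [
      (0,0), (1,0), (0,1), (0,2), (1,2), (0,3), (1,3), (0,4), (1,4), (0,5), (0,6), (1,6), (0,7),
      (1,7)],
    [
      (1,0), (0,1), (1,1), (0,2), (1,2), (0,3), (1,3), (0,4), (1,4), (0,5), (1,5), (0,6), (1,6),
      (0,7), (1,7), (0,8), (1,8), (0,9), (1,9), (0,10), (1,10), (0,11), (1,11), (0,12), (1,12),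
      (0,13), (1,13)],
    [
      (0,0), (1,0), (0,1), (1,1), (0,2), (1,2), (0,3), (1,3), (0,4), (0,6), (0,7), (0,8), (1,8),
      (0,9), (1,9), (0,10), (0,11), (0,12), (0,13), (1,13), (0,14), (1,14), (0,16), (0,18), (1,19),
      (0,22), (1,22), (0,24), (0,25), (1,25), (0,26), (1,26)],
    [
      (0,0), (1,0), (1,1), (0,2), (1,2), (0,5), (0,7), (1,8), (1,10), (1,11), (0,13), (0,15),
      (1,15), (0,16), (1,18), (0,19), (1,23), (1,25), (1,27), (0,28), (0,30)],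
    [
      (0,1), (1,2), (1,5), (0,6), (1,10), (1,13), (0,14), (1,14), (0,15), (1,16)],
    [
      (0,6)]])]

/-- A permutation as a list. -/
def triRho : List ℕ := [19, 16, 3, 12, 13, 23, 4, 6, 10, 0, 8, 22, 5, 7, 18, 2, 17, 11, 21, 14, 1, 20, 9, 15]

/-- A permutation as a list. -/
def triRhoInv : List ℕ := [9, 20, 15, 2, 6, 12, 7, 13, 10, 22, 8, 17, 3, 4, 19, 23, 1, 16, 14, 0, 21, 18, 11, 5]

/-- A permutation as a list. -/
def triPi : List ℕ := [12, 8, 18, 2, 14, 22, 13, 15, 23, 21, 6, 5, 16, 4, 10, 11, 0, 17, 20, 1, 19, 3, 9, 7]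

/-- A permutation as a list. -/
def triPiInv : List ℕ := [16, 19, 3, 21, 13, 11, 10, 23, 1, 22, 14, 15, 0, 6, 4, 7, 12, 17, 2, 20, 18, 9, 5, 8]

/-- Witnesses along a chain of links. -/
def wit20736 : List (List ℤ) := [
  [0, 2, 0, 0, 0, 0, 0, -2, 2, 0, 0, 2, 0, -2, 0, 0, 2, 0, 0, -2, 0, 0, 0, -2],
  [-2, 0, 0, 0, -2, 0, -2, 0, 0, -2, 0, 2, 0, 0, 2, 0, 0, 0, 0, -2, 0, -2, 0, 0],
  [-1, 1, 1, -1, -1, -1, -1, -1, -1, 1, -3, -1, 1, -1, 1, 1, 1, 1, 1, -1, 1, -1, 1, -1]]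

/-- Witnesses along a chain of links. -/
def wit2816 : List (List ℤ) := [
  [0, -2, 0, 0, -2, 0, 0, 0, 0, 0, -2, 2, 2, -2, 0, -2, 0, 0, 0, 0, 0, 0, 0, -2],
  [0, -2, 0, 2, 0, 0, 0, -2, 0, 0, 2, 0, 0, 0, 2, -2, 0, 0, 0, 2, 0, 0, 0, -2]]

end Cfsg.Lib.Leech.Tri
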