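import Mathlib

/-! An element of the stabiliser of a triangle with witnesses (computed offline). -/

namespace Cfsg.Lib.Leech.Tri

/-- A permutation as a list. -/
def macPermA : List ℕ := [7, 9, 22, 19, 8, 21, 16, 13, 4, 2, 20, 10, 12, 18, 23, 15, 5, 3, 6, 14, 17, 0, 1, 11]
/-- A permutation as a list. -/
def macPermAInv : List ℕ := [21, 22, 9, 17, 8, 16, 18, 0, 4, 1, 11, 23, 12, 7, 19, 15, 6, 20, 13, 3, 10, 5, 2, 14]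
/-- A permutation as a list. -/
def macPermB : List ℕ := [14, 19, 8, 22, 6, 10, 13, 4, 7, 21, 17, 5, 12, 23, 15, 18, 3, 20, 1, 16, 0, 9, 11, 2]
/-- A permutation as a list. -/
def macPermBInv : List ℕ := [20, 18, 23, 16, 7, 11, 4, 8, 2, 21, 5, 22, 12, 6, 0, 14, 19, 10, 15, 1, 17, 9, 3, 13]
/-- Three code words. -/
def macMasks : ℕ × ℕ × ℕ := (14069282, 3559924, 689317)
/-- Witnesses and their images. -/
def macWit : List (List ℤ × List ℤ) := [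
  ([2, 0, 0, 0, 0, 0, 0, 0, 0, 0, 0, 0, 2, 0, 2, 0, 2, 2, 2, 0, 0, 0, 2, 2], [1, -1, 1, -1, 1, 1, 1, 1, -1, -1, 1, -1, 1, 1, 1, -1, 1, -1, 1, 1, 1, 1, 1, 3]),
  ([0, 0, 4, 0, 0, 0, 0, 0, 0, 0, 0, 0, 0, 0, 0, 0, 0, 0, 0, 0, 0, 0, 0, 4], [2, 2, 2, 0, 0, 0, 0, 0, 2, 0, 0, 2, 2, 0, 0, 0, 0, 0, 2, 0, 0, 0, 0, 2]),
  ([0, 0, 0, 4, 0, 0, 0, 0, 0, 0, 0, 0, 0, 0, 0, 0, 0, 0, 0, 0, 0, 0, 0, 4], [1, 1, -1, 1, 1, -1, 1, 1, 1, 1, -1, 1, 1, 1, 1, 1, -1, -1, 1, 1, -1, 1, -1, 3])]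

end Cfsg.Lib.Leech.Tri
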