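import Mathlib
import Cfsg.Prelude.Def_Sporadic_a
import Cfsg.Agent.Lib.Leech.Tri.Split22

/-!
The suborbits of lengths 330, 462, 1232 on the 2025 third vertices of a triangle of type `222`.
-/

set_option autoImplicit false
set_option linter.unusedSimpArgs false

namespace Cfsg.Lib.Leech.Tri

open Cfsg Cfsg.Lib.Golay Cfsg.Lib.Leech
open scoped Pointwise

local notation "CC" => supports (golayCode : Set (GolayPt → ZMod 2))

theorem octad_counts :
    (octMasks.filter fun n => !n.testBit 23 && !n.testBit 0).length = 330 ∧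
    (octMasks.filter fun n => n.testBit 23 && n.testBit 0).length = 77 ∧
    (octMasks.filter fun n => !n.testBit 23 && n.testBit 0).length = 176 := by decide +kernel

theorem card_octads_flags (a b : Bool) :
    (octadFinset.filter fun O => decide (ptA ∈ O) = a ∧ decide (ptB ∈ O) = b).card =
      (octMasks.filter fun n => (n.testBit 23 == a) && (n.testBit 0 == b)).length := by
  classical
  rw [← List.toFinset_card_of_nodup (octMasks_nodup.filter _)]
  refine Finset.card_bij (fun O _ => setNat O) (fun O hO => ?_) (fun O _ O' _ e => ?_) fun n hn => ?_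
  · obtain ⟨hO, h1, h2⟩ := Finset.mem_filter.1 hO
    rw [List.mem_toFinset, List.mem_filter, testBit_setNat _ (by norm_num : (23 : ℕ) < 24),
      testBit_setNat _ (by norm_num : (0 : ℕ) < 24)]
    refine ⟨(mem_octads_iff O).1 (mem_octadFinset.1 hO), ?_⟩
    rw [show pt 23 = ptA from rfl, show pt 0 = ptB from rfl, h1, h2]
    simp
  · rw [← toSet_setNat O, e, toSet_setNat]
  · rw [List.mem_toFinset, List.mem_filter, Bool.and_eq_true, beq_iff_eq, beq_iff_eq] at hn
    have ho : toSet n ∈ octads := toSet_mem_octads hn.1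
    have hsn : setNat (toSet n) = n := setNat_toSet (lt_of_inCode (inCode_of_mem_octMasks hn.1).1)
    refine ⟨toSet n, Finset.mem_filter.2 ⟨mem_octadFinset.2 ho, ?_, ?_⟩, hsn⟩
    · rw [← hn.2.1, Bool.eq_iff_iff, decide_eq_true_eq, mem_toSet]; rfl
    · rw [← hn.2.2, Bool.eq_iff_iff, decide_eq_true_eq, mem_toSet]; rfl

/-- `(1, -3, 1, …, 1)`. -/
def threeVec : leechLattice := fiveVec - baseVec

/-- Membership among the 2025. -/
def Third (y : leechLattice) : Prop := nm y = 32 ∧ dt baseVec y = 0 ∧ dt threeVec y = 16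

theorem dt_three (y : leechLattice) : dt threeVec y = dt fiveVec y - dt baseVec y := by
  rw [threeVec, dt_comm, dt_sub, dt_comm y, dt_comm y]

theorem third_invariant {σ : Equiv.Perm GolayPt} (hσ : σ ∈ M24) (hfix : ∀ k ∈ pairSet, σ k = k)
    (y : leechLattice) : (Third (permElt σ hσ • y) ↔ Third y) ∧
      dt diffVec (permElt σ hσ • y) = dt diffVec y := by
  obtain ⟨f1, f2, f3⟩ := perm_fix hσ hfix
  have e1 : ∀ z, permElt σ hσ • z = z → dt z (permElt σ hσ • y) = dt z y := fun z hz => by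
    conv_lhs => rw [← hz]
    exact co0_dot _ _ _
  refine ⟨?_, e1 _ f2⟩
  simp only [Third, dt_three, e1 _ f1, e1 _ f3]
  simp only [nm, co0_norm]

/-- The parameters: an octad and a marked point. -/
abbrev Par := (_ : Finset GolayPt) × GolayPt

/-- The three shapes. -/
def shapeA (q : Par) (i : GolayPt) : ℤ := if i ∈ q.1 then 2 else 0
/-- The three shapes. -/
def shapeB (q : Par) (i : GolayPt) : ℤ := if i ∈ q.1 then (if i = ptB ∨ i = q.2 then -2 else 2) else 0
/-- The three shapes. -/
def shapeC (q : Par) (i : GolayPt) : ℤ := if i = q.2 then 3 else if i ∈ q.1 then -1 else 1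

/-- The octads with given flags, with a marked point chosen among `f O`. -/
def params (a b : Bool) (f : Finset GolayPt → Finset GolayPt) : Finset Par :=
  (octadFinset.filter fun O => decide (ptA ∈ O) = a ∧ decide (ptB ∈ O) = b).sigma f

theorem mem_params {a b : Bool} {f : Finset GolayPt → Finset GolayPt} {q : Par} :
    q ∈ params a b f ↔ q.1 ∈ octads ∧ decide (ptA ∈ q.1) = a ∧ decide (ptB ∈ q.1) = b ∧ q.2 ∈ f q.1 := by
  rw [params, Finset.mem_sigma, Finset.mem_filter, mem_octadFinset]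
  tauto

theorem card_params {a b : Bool} {f : Finset GolayPt → Finset GolayPt} {n : ℕ}
    (h : ∀ O ∈ octads, decide (ptA ∈ O) = a → decide (ptB ∈ O) = b → (f O).card = n) :
    (params a b f).card = (octMasks.filter fun m => (m.testBit 23 == a) && (m.testBit 0 == b)).length * n := by
  rw [params, Finset.card_sigma, Finset.sum_congr rfl (g := fun _ => n) fun O hO => ?_, Finset.sum_const,
    smul_eq_mul, card_octads_flags]
  obtain ⟨h1, h2, h3⟩ := Finset.mem_filter.1 hO
  exact h O (mem_octadFinset.1 h1) h2 h3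

attribute [irreducible] params

theorem third_cases {y : leechLattice} (hy : Third y) :
    y = diffVec ∨
    (dt diffVec y = 0 ∧ ∃ q ∈ params false false (fun _ => {none}), (y : GolayPt → ℤ) = shapeA q) ∨
    (dt diffVec y = 16 ∧ ∃ q ∈ params true true (fun O => (O.erase ptA).erase ptB), (y : GolayPt → ℤ) = shapeB q) ∨
    (dt diffVec y = 8 ∧ ∃ q ∈ params false true (fun O => O.erase ptB), (y : GolayPt → ℤ) = shapeC q) := by
  classical
  obtain ⟨hn, hb, h3⟩ := hy
  rw [dt_three, dt_five] at h3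
  rw [dt_base] at hb h3
  have hAB : (ptA : GolayPt) ≠ ptB := by decide
  rw [dt_diff]
  rcases shape32 y.2 hn with ⟨O, hO, sy⟩ | ⟨A, hA, sy⟩ | ⟨p, sy⟩
  · set N := O.filter fun i => (y : GolayPt → ℤ) i = -2 with hN
    have e : ∀ i, (y : GolayPt → ℤ) i = 2 * (if i ∈ O then 1 else 0) - 4 * (if i ∈ N then 1 else 0) := fun i => by
      by_cases hi : i ∈ O
      · rcases (abs_eq (by norm_num)).1 ((sy i).trans (if_pos hi)) with h | h
        · rw [if_pos hi, if_neg (fun hm => by have := (Finset.mem_filter.1 hm).2; omega), h]; norm_num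
        · rw [if_pos hi, if_pos (Finset.mem_filter.2 ⟨hi, h⟩), h]; norm_num
      · have h := abs_eq_zero.1 ((sy i).trans (if_neg hi))
        rw [if_neg hi, if_neg (fun hm => hi (Finset.mem_filter.1 hm).1), h]; norm_num
    have hS : ∑ i, (y : GolayPt → ℤ) i = 16 - 4 * (N.card : ℤ) := by
      rw [Finset.sum_congr rfl fun i _ => e i, Finset.sum_sub_distrib, ← Finset.mul_sum, ← Finset.mul_sum,
        Finset.sum_boole, Finset.sum_boole, show (Finset.univ.filter fun i => i ∈ O) = O from by ext; simp,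
        show (Finset.univ.filter fun i => i ∈ N) = N from by ext; simp, card_octad hO]
      norm_num
    have hNO : N ⊆ O := Finset.filter_subset _ _
    have eA := e ptA
    have eB := e ptB
    by_cases ha : ptA ∈ O
    · -- sum 8
      have hbO : ptB ∈ O := by
        by_contra hbO
        rw [if_pos ha] at eA
        rw [if_neg hbO, if_neg (fun hm => hbO (hNO hm))] at eB
        split at eA <;> omega
      rw [if_pos ha] at eA
      rw [if_pos hbO] at eB
      have hA' : ptA ∉ N := fun hm => by rw [if_pos hm] at eA; split at eB <;> omega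
      rw [if_neg hA'] at eA
      have hB' : ptB ∈ N := by by_contra hm; rw [if_neg hm] at eB; omega
      rw [if_pos hB'] at eB
      have hc : (N.erase ptB).card = 1 := by rw [Finset.card_erase_of_mem hB']; omega
      obtain ⟨p, hp⟩ := Finset.card_eq_one.1 hc
      have hpN : p ∈ N ∧ p ≠ ptB := by
        have : p ∈ N.erase ptB := by rw [hp]; simp
        rw [Finset.mem_erase] at this; exact ⟨this.2, this.1⟩
      refine Or.inr (Or.inr (Or.inl ⟨by omega, ⟨O, p⟩, mem_params.2 ⟨hO, by simpa using ha, by simpa using hbO,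
        Finset.mem_erase.2 ⟨hpN.2, Finset.mem_erase.2 ⟨fun h => hA' (h ▸ hpN.1), hNO hpN.1⟩⟩⟩, funext fun i => ?_⟩))
      have hiN : i ∈ N ↔ i = ptB ∨ i = p := by
        refine ⟨fun h => ?_, ?_⟩
        · by_cases h' : i = ptB
          · exact Or.inl h'
          · have : i ∈ N.erase ptB := Finset.mem_erase.2 ⟨h', h⟩
            rw [hp, Finset.mem_singleton] at this; exact Or.inr this
        · rintro (rfl | rfl)
          exacts [hB', hpN.1]
      rw [e i]
      simp only [shapeB]
      by_cases hi : i ∈ O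
      · rw [if_pos hi, if_pos hi]
        by_cases hm : i ∈ N
        · rw [if_pos hm, if_pos (hiN.1 hm)]; norm_num
        · rw [if_neg hm, if_neg (fun h => hm (hiN.2 h))]; norm_num
      · rw [if_neg hi, if_neg hi, if_neg (fun h => hi (hNO h))]; norm_num
    · rw [if_neg ha, if_neg (fun hm => ha (hNO hm))] at eA
      have hbO : ptB ∉ O := fun hbO => by
        rw [if_pos hbO] at eB
        split at eB <;> omega
      rw [if_neg hbO, if_neg (fun hm => hbO (hNO hm))] at eB
      have hN0 : N = ∅ := Finset.card_eq_zero.1 (by omega)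
      refine Or.inr (Or.inl ⟨by omega, ⟨O, none⟩, mem_params.2 ⟨hO, by simpa using ha, by simpa using hbO,
        Finset.mem_singleton_self _⟩, funext fun i => ?_⟩)
      rw [e i, hN0]
      simp only [shapeA, Finset.notMem_empty, if_false]
      split <;> norm_num
  · left
    have b : ∀ i, |(y : GolayPt → ℤ) i| = if i ∈ A then 4 else 0 := sy
    have hle : ∑ i, (y : GolayPt → ℤ) i ≤ 8 := by
      refine le_trans (Finset.sum_le_sum (g := fun i => if i ∈ A then (4 : ℤ) else 0) fun i _ => ?_) ?_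
      · rw [← b i]; exact le_abs_self _
      · rw [← Finset.sum_filter, show (Finset.univ.filter fun i => i ∈ A) = A from by ext; simp, Finset.sum_const,
          hA]; rfl
    have hge : -8 ≤ ∑ i, (y : GolayPt → ℤ) i := by
      refine le_trans ?_ (Finset.sum_le_sum (f := fun i => if i ∈ A then (-4 : ℤ) else 0) fun i _ => ?_)
      · rw [← Finset.sum_filter, show (Finset.univ.filter fun i => i ∈ A) = A from by ext; simp, Finset.sum_const,
          hA]; rfl
      · have := b i
        have := neg_abs_le ((y : GolayPt → ℤ) i)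
        split <;> rename_i h <;> simp only [h, if_true, if_false] at * <;> omega
    have va := b ptA
    have vb := b ptB
    have ea : (y : GolayPt → ℤ) ptA = 4 := by
      rcases abs_cases ((y : GolayPt → ℤ) ptA) with ⟨e, -⟩ | ⟨e, -⟩ <;> rw [e] at va <;> split at va <;> omega
    have eb : (y : GolayPt → ℤ) ptB = -4 := by omega
    have ma : ptA ∈ A := by by_contra h; rw [if_neg h, ea] at va; norm_num at va
    have mb : ptB ∈ A := by by_contra h; rw [if_neg h, eb] at vb; norm_num at vb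
    have hset : ({ptA, ptB} : Finset GolayPt) = A :=
      Finset.eq_of_subset_of_card_le (by
        intro i hi; simp only [Finset.mem_insert, Finset.mem_singleton] at hi
        rcases hi with rfl | rfl <;> assumption)
        (by rw [hA, Finset.card_pair hAB])
    refine Subtype.ext (funext fun i => ?_)
    by_cases h1 : i = ptA
    · subst h1; rw [ea]; simp [diffVec, minusVec, hAB]
    · by_cases h2 : i = ptB
      · subst h2; rw [eb]; simp [diffVec, minusVec, hAB.symm]
      · have := b i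
        rw [← hset, if_neg (by simp [h1, h2])] at this
        rw [abs_eq_zero.1 this]; simp [diffVec, minusVec, h1, h2]
  · have v : ∀ i, if i = p then ((y : GolayPt → ℤ) i = 3 ∨ (y : GolayPt → ℤ) i = -3) else
        ((y : GolayPt → ℤ) i = 1 ∨ (y : GolayPt → ℤ) i = -1) := fun i => by
      by_cases h : i = p
      · rw [if_pos h]
        exact (abs_eq (by norm_num)).1 ((sy i).trans (if_pos (Finset.mem_singleton.2 h)))
      · rw [if_neg h]
        exact (abs_eq (by norm_num)).1 ((sy i).trans (if_neg fun h' => h (Finset.mem_singleton.1 h')))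
    have hno3 : p ≠ ptA ∧ p ≠ ptB := by
      constructor <;> intro e <;> subst e
      · have v1 := v ptA; have v2 := v ptB
        rw [if_pos rfl] at v1; rw [if_neg hAB.symm] at v2
        omega
      · have v1 := v ptA; have v2 := v ptB
        rw [if_neg hAB] at v1; rw [if_pos rfl] at v2
        omega
    set N := oddSet (y : GolayPt → ℤ) with hN
    have vA := v ptA
    rw [if_neg (Ne.symm hno3.1)] at vA
    have vp := v p
    rw [if_pos rfl] at vp
    set t := (y : GolayPt → ℤ) ptA with ht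
    have en : (y : GolayPt → ℤ) none = t := rfl
    have hmem : ∀ i, i ∈ N ↔ ¬ (y : GolayPt → ℤ) i % 4 = t % 4 := fun i => by rw [hN, mem_oddSet, en]
    have e : ∀ i, (y : GolayPt → ℤ) i =
        t * (1 - 2 * (if i ∈ N then 1 else 0)) + (if i = p then (if p ∈ N then 4 * t else -4 * t) else 0) := by
      intro i
      have hi := v i
      by_cases h : i = p
      · subst h
        rw [if_pos rfl] at hi ⊢
        by_cases hm : i ∈ N <;> have := hmem i <;> simp only [hm, if_true, if_false, true_iff, false_iff, not_not] at this ⊢ <;>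
          rcases vA with vA | vA <;> rw [vA] at this ⊢ <;> omega
      · rw [if_neg h] at hi ⊢
        by_cases hm : i ∈ N <;> have := hmem i <;> simp only [hm, if_true, if_false, true_iff, false_iff, not_not] at this ⊢ <;>
          rcases vA with vA | vA <;> rw [vA] at this ⊢ <;> omega
    have hS : ∑ i, (y : GolayPt → ℤ) i = t * (24 - 2 * (N.card : ℤ)) + (if p ∈ N then 4 * t else -4 * t) := by
      rw [Finset.sum_congr rfl fun i _ => e i, Finset.sum_add_distrib, Finset.sum_ite_eq', if_pos (Finset.mem_univ p),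
        ← Finset.mul_sum, Finset.sum_sub_distrib, ← Finset.mul_sum, Finset.sum_boole, Finset.sum_const,
        Finset.card_univ, card_golayPt, show (Finset.univ.filter fun i => i ∈ N) = N from by ext; simp]
      norm_num
    have hN24 : N.card ≤ 23 := by
      have := Finset.card_le_card (s := N) (t := Finset.univ.erase none) fun i hi =>
        Finset.mem_erase.2 ⟨fun h => (h ▸ none_notMem_oddSet _ : i ∉ oddSet (y : GolayPt → ℤ)) (hN ▸ hi),
          Finset.mem_univ _⟩
      rwa [Finset.card_erase_of_mem (Finset.mem_univ _), Finset.card_univ, card_golayPt] at this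
    have hC := oddSet_mem (parity y.2) (invariants y.2).1
    rw [← hN] at hC
    have hw := weight_cases hC
    have hfin : t = 1 ∧ p ∈ N ∧ N.card = 8 := by
      by_cases hpN : p ∈ N
      · rw [if_pos hpN] at hS
        rcases vA with vA | vA <;> rw [vA] at hS hb h3 <;> refine ⟨?_, hpN, ?_⟩ <;> omega
      · rw [if_neg hpN] at hS
        exfalso
        rcases vA with vA | vA <;> rw [vA] at hS hb h3 <;> omega
    obtain ⟨t1, hpN, h8⟩ := hfin
    have hBN : ptB ∈ N := (hmem ptB).2 (by omega)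
    have hAN : ptA ∉ N := fun h => (hmem ptA).1 h rfl
    refine Or.inr (Or.inr (Or.inr ⟨by omega, ⟨N, p⟩, mem_params.2 ⟨⟨hC, h8⟩, by simpa using hAN, by simpa using hBN,
      Finset.mem_erase.2 ⟨hno3.2, hpN⟩⟩, funext fun i => ?_⟩))
    rw [e i, t1]
    simp only [shapeC, if_pos hpN]
    by_cases h : i = p
    · subst h; simp [hpN]
    · by_cases hm : i ∈ N <;> simp [h, hm]

/-- Counting and transitivity for one class. -/
theorem class_orbit {k : ℤ} (hk : k ≠ 32) {P : Finset Par} {F : Par → GolayPt → ℤ}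
    (hcls : ∀ y, Third y → dt diffVec y = k → ∃ q ∈ P, (y : GolayPt → ℤ) = F q)
    (hinj : ∀ q ∈ P, ∀ q' ∈ P, F q = F q' → q = q')
    (htr : ∀ q ∈ P, ∀ q' ∈ P, ∃ σ ∈ M24, (∀ i ∈ pairSet, σ i = i) ∧ ∀ i, F q i = F q' (σ i))
    {y0 : leechLattice} (h0 : Third y0) (h0k : dt diffVec y0 = k) :
    {y | Third y ∧ dt diffVec y = k}.ncard = P.card ∧
      ∀ y, Third y → dt diffVec y = k → ∃ g : Co0, g • fiveVec = fiveVec ∧ g • diffVec = diffVec ∧
        g • baseVec = baseVec ∧ g • y0 = y := by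
  classical
  obtain ⟨q0, hq0, e0⟩ := hcls y0 h0 h0k
  have hmove : ∀ q ∈ P, ∃ y, Third y ∧ dt diffVec y = k ∧ (y : GolayPt → ℤ) = F q ∧
      ∃ g : Co0, g • fiveVec = fiveVec ∧ g • diffVec = diffVec ∧ g • baseVec = baseVec ∧ g • y0 = y := by
    intro q hq
    obtain ⟨σ, hσ, hfix, hs⟩ := htr q0 hq0 q hq
    obtain ⟨f1, f2, f3⟩ := perm_fix hσ hfix
    obtain ⟨i1, i2⟩ := third_invariant hσ hfix y0
    refine ⟨permElt σ hσ • y0, i1.2 h0, i2.trans h0k, funext fun i => ?_, _, f1, f2, f3, rfl⟩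
    rw [permElt_apply, e0, hs, Equiv.Perm.inv_def, Equiv.apply_symm_apply]
  refine ⟨?_, fun y hy hyk => ?_⟩
  · rw [← Set.ncard_coe_finset P]
    refine Set.ncard_congr' ?_
    refine Equiv.ofBijective (fun y => ⟨(hcls y.1 y.2.1 y.2.2).choose, (hcls y.1 y.2.1 y.2.2).choose_spec.1⟩) ⟨?_, ?_⟩
    · intro y z e
      have e' := congrArg Subtype.val e
      dsimp only at e'
      refine Subtype.ext (Subtype.ext ?_)
      rw [(hcls y.1 y.2.1 y.2.2).choose_spec.2, (hcls z.1 z.2.1 z.2.2).choose_spec.2, e']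
    · rintro ⟨q, hq⟩
      obtain ⟨y, h1, h2, h3, -⟩ := hmove q hq
      refine ⟨⟨y, h1, h2⟩, Subtype.ext (hinj _ (hcls y h1 h2).choose_spec.1 q hq ?_)⟩
      rw [← (hcls y h1 h2).choose_spec.2, h3]
  · obtain ⟨q, hq, e⟩ := hcls y hy hyk
    obtain ⟨z, -, -, h3, g, g1, g2, g3, g4⟩ := hmove q hq
    exact ⟨g, g1, g2, g3, g4.trans (Subtype.ext (h3.trans e.symm))⟩

theorem smul_mem_iff {σ : Equiv.Perm GolayPt} {O O' : Finset GolayPt} (h : σ • O = O') (i : GolayPt) :
    σ i ∈ O' ↔ i ∈ O := by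
  rw [← h, Finset.mem_smul_finset]
  exact ⟨fun ⟨j, hj, e⟩ => σ.injective e ▸ hj, fun hi => ⟨i, hi, rfl⟩⟩

theorem transA : ∀ q ∈ params false false (fun _ => {none}), ∀ q' ∈ params false false (fun _ => {none}),
    ∃ σ ∈ M24, (∀ i ∈ pairSet, σ i = i) ∧ ∀ i, shapeA q i = shapeA q' (σ i) := by
  intro q hq q' hq'
  obtain ⟨h1, h2, h3, -⟩ := mem_params.1 hq
  obtain ⟨k1, k2, k3, -⟩ := mem_params.1 hq'
  simp only [decide_eq_false_iff_not] at h2 h3 k2 k3
  obtain ⟨σ, hσ, hfix, hs⟩ := octad_pair_transitive h1 k1 (iff_of_false h2 k2) (iff_of_false h3 k3)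
  exact ⟨σ, hσ, hfix, fun i => by simp only [shapeA, smul_mem_iff hs i]⟩

theorem transB : ∀ q ∈ params true true (fun O => (O.erase ptA).erase ptB),
    ∀ q' ∈ params true true (fun O => (O.erase ptA).erase ptB),
    ∃ σ ∈ M24, (∀ i ∈ pairSet, σ i = i) ∧ ∀ i, shapeB q i = shapeB q' (σ i) := by
  classical
  intro q hq q' hq'
  obtain ⟨h1, h2, h3, h4⟩ := mem_params.1 hq
  obtain ⟨k1, k2, k3, k4⟩ := mem_params.1 hq'
  simp only [decide_eq_true_eq, Finset.mem_erase] at h2 h3 h4 k2 k3 k4
  have five : ∀ (O : Finset GolayPt) (p : GolayPt), O ∈ octads → ptA ∈ O → ptB ∈ O → p ∈ O → p ≠ ptA → p ≠ ptB →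
      ∃ x : Fin 5 ↪ GolayPt, x 0 = ptA ∧ x 1 = ptB ∧ x 2 = p ∧ ∀ j, x j ∈ O := by
    intro O p hO a b hp pa pb
    have hc : 2 ≤ (((O.erase ptA).erase ptB).erase p).card := by
      have := card_octad hO
      rw [Finset.card_erase_of_mem (by simp [hp, pa, pb]), Finset.card_erase_of_mem (by simp [b]; decide),
        Finset.card_erase_of_mem a]
      omega
    obtain ⟨r, hr, s, hs, hrs⟩ := Finset.one_lt_card.1 hc
    simp only [Finset.mem_erase] at hr hs
    refine ⟨⟨![ptA, ptB, p, r, s], ?_⟩, rfl, rfl, rfl, fun j => ?_⟩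
    · intro i j e
      have hAB : (ptA : GolayPt) ≠ ptB := by decide
      obtain ⟨r3, r2, r1, -⟩ := hr
      obtain ⟨s3, s2, s1, -⟩ := hs
      fin_cases i <;> fin_cases j <;> simp_all [eq_comm]
    · fin_cases j <;> first | exact a | exact b | exact hp | exact hr.2.2.2 | exact hs.2.2.2
  obtain ⟨x, x0, x1, x2, xO⟩ := five q.1 q.2 h1 h2 h3 h4.2.2 h4.2.1 h4.1
  obtain ⟨y, y0, y1, y2, yO⟩ := five q'.1 q'.2 k1 k2 k3 k4.2.2 k4.2.1 k4.1
  obtain ⟨σ, hσ, hs⟩ := exists_perm_tuple le_rfl x y
  have hA : σ ptA = ptA := by rw [← x0, hs, y0, x0]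
  have hB : σ ptB = ptB := by rw [← x1, hs, y1, x1]
  have hp : σ q.2 = q'.2 := by rw [← x2, hs, y2]
  have hO : σ • q.1 = q'.1 := by
    refine octad_eq_of_five (smul_mem_octads (M24_le_setSystemAut hσ) h1) k1 ?_
    refine le_trans (le_of_eq ?_) (Finset.card_le_card (s := Finset.univ.map y) fun i hi => ?_)
    · simp
    · obtain ⟨j, -, rfl⟩ := Finset.mem_map.1 hi
      exact Finset.mem_inter.2 ⟨by rw [← hs j]; exact Finset.smul_mem_smul_finset (xO j), yO j⟩
  refine ⟨σ, hσ, fun i hi => ?_, fun i => ?_⟩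
  · simp only [pairSet, Finset.mem_insert, Finset.mem_singleton] at hi
    rcases hi with rfl | rfl
    exacts [hA, hB]
  · have e1 : σ i = ptB ↔ i = ptB := ⟨fun e => σ.injective (e.trans hB.symm), fun e => e ▸ hB⟩
    have e2 : σ i = q'.2 ↔ i = q.2 := ⟨fun e => σ.injective (e.trans hp.symm), fun e => e ▸ hp⟩
    simp only [shapeB, smul_mem_iff hO i, e1, e2]

theorem transC : ∀ q ∈ params false true (fun O => O.erase ptB),
    ∀ q' ∈ params false true (fun O => O.erase ptB),
    ∃ σ ∈ M24, (∀ i ∈ pairSet, σ i = i) ∧ ∀ i, shapeC q i = shapeC q' (σ i) := by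
  classical
  intro q hq q' hq'
  have norm3 : ∀ {q : Par}, q ∈ params false true (fun O => O.erase ptB) → ∃ σ ∈ M24, σ ptA = ptB ∧ σ ptB = ptA ∧
      σ q.2 = ptC ∧ σ • q.1 ∈ octads ∧ ptA ∈ σ • q.1 ∧ ptB ∉ σ • q.1 ∧ ptC ∈ σ • q.1 := by
    intro q hq
    obtain ⟨h1, h2, h3, h4⟩ := mem_params.1 hq
    simp only [decide_eq_true_eq, decide_eq_false_iff_not, Finset.mem_erase] at h2 h3 h4
    have pa : q.2 ≠ ptA := fun e => h2 (e ▸ h4.2)
    have hAB : (ptA : GolayPt) ≠ ptB := by decide
    let x : Fin 3 ↪ GolayPt := ⟨![ptA, ptB, q.2], by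
      intro i j e; fin_cases i <;> fin_cases j <;> simp_all [eq_comm]⟩
    let z : Fin 3 ↪ GolayPt := ⟨![ptB, ptA, ptC], by decide⟩
    obtain ⟨σ, hσ, hs⟩ := exists_perm_tuple (by norm_num) x z
    have eA : σ ptA = ptB := hs 0
    have eB : σ ptB = ptA := hs 1
    have eC : σ q.2 = ptC := hs 2
    refine ⟨σ, hσ, eA, eB, eC, smul_mem_octads (M24_le_setSystemAut hσ) h1, ?_, ?_, ?_⟩
    · have := Finset.smul_mem_smul_finset (a := σ) h3; rwa [Equiv.Perm.smul_def, eB] at this
    · intro h; rw [← eA] at h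
      exact h2 ((smul_mem_iff rfl ptA).1 h)
    · have := Finset.smul_mem_smul_finset (a := σ) h4.2; rwa [Equiv.Perm.smul_def, eC] at this
  obtain ⟨a, ha, aA, aB, aC, aO, a1, a2, a3⟩ := norm3 hq
  obtain ⟨b, hb, bA, bB, bC, bO, b1, b2, b3⟩ := norm3 hq'
  obtain ⟨τ, hτ, hfix, hO⟩ := octad_tri_transitive aO bO (fun k hk => by
      simp only [triSet, Finset.mem_insert, Finset.mem_singleton] at hk
      rcases hk with rfl | rfl | rfl
      exacts [iff_of_true a1 b1, iff_of_false a2 b2, iff_of_true a3 b3]) (Or.inl ⟨a1, a2, a3⟩)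
  have tA : τ ptA = ptA := hfix _ (by simp [triSet, ptA])
  have tB : τ ptB = ptB := hfix _ (by simp [triSet, ptB])
  have tC : τ ptC = ptC := hfix _ (by simp [triSet, ptC])
  refine ⟨b⁻¹ * τ * a, Subgroup.mul_mem _ (Subgroup.mul_mem _ (Subgroup.inv_mem _ hb) hτ) ha, fun i hi => ?_,
    fun i => ?_⟩
  · simp only [pairSet, Finset.mem_insert, Finset.mem_singleton] at hi
    rcases hi with rfl | rfl
    · change b.symm (τ (a ptA)) = ptA
      rw [aA, tB, Equiv.symm_apply_eq, bA]
    · change b.symm (τ (a ptB)) = ptB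
      rw [aB, tA, Equiv.symm_apply_eq, bB]
  · change shapeC q i = shapeC q' (b.symm (τ (a i)))
    have e1 : b.symm (τ (a i)) = q'.2 ↔ i = q.2 := by
      rw [Equiv.symm_apply_eq, bC]
      conv_lhs => rw [← tC, τ.injective.eq_iff, ← aC, a.injective.eq_iff]
    have e2 : b.symm (τ (a i)) ∈ q'.1 ↔ i ∈ q.1 := by
      rw [← smul_mem_iff (σ := b) rfl, Equiv.apply_symm_apply, smul_mem_iff hO, smul_mem_iff rfl]
    simp only [shapeC, e1, e2]

theorem wit_checks :
    (CheckVec (ofList [0, 2, 0, 0, 0, 0, 0, 0, 0, 0, 0, 0, 2, 2, 2, 2, 2, 0, 0, 2, 0, 0, 2, 0]) ∧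
      sqNorm (ofList [0, 2, 0, 0, 0, 0, 0, 0, 0, 0, 0, 0, 2, 2, 2, 2, 2, 0, 0, 2, 0, 0, 2, 0]) = 32) ∧
    (CheckVec (ofList [-2, 0, 0, 0, 0, 0, 0, 0, 0, 0, 0, 0, -2, 0, 2, 0, 2, 2, 2, 0, 0, 0, 2, 2]) ∧
      sqNorm (ofList [-2, 0, 0, 0, 0, 0, 0, 0, 0, 0, 0, 0, -2, 0, 2, 0, 2, 2, 2, 0, 0, 0, 2, 2]) = 32) ∧
    (CheckVec (ofList [-1, 1, 3, 1, 1, 1, 1, 1, 1, 1, 1, 1, 1, -1, -1, -1, -1, -1, 1, 1, -1, 1, 1, 1]) ∧
      sqNorm (ofList [-1, 1, 3, 1, 1, 1, 1, 1, 1, 1, 1, 1, 1, -1, -1, -1, -1, -1, 1, 1, -1, 1, 1, 1]) = 32) := by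
  decide +kernel

/-- The three suborbits at the base triangle. -/
theorem third_suborbits : ∀ kn ∈ [((0 : ℤ), 330), (16, 462), (8, 1232)], ∃ y0, Third y0 ∧ dt diffVec y0 = kn.1 ∧
    {y | Third y ∧ dt diffVec y = kn.1}.ncard = kn.2 ∧
      ∀ y, Third y → dt diffVec y = kn.1 → ∃ g : Co0, g • fiveVec = fiveVec ∧ g • diffVec = diffVec ∧
        g • baseVec = baseVec ∧ g • y0 = y := by
  classical
  have hb : ∀ (l : List ℤ) (hl : CheckVec (ofList l) ∧ sqNorm (ofList l) = 32) (k : ℤ),
      4 * ofList l ptA + 4 * ofList l ptB = 0 → 4 * ofList l ptA + ∑ i, ofList l i = 16 →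
      4 * ofList l ptA - 4 * ofList l ptB = k →
      Third ⟨ofList l, mem_of_check hl.1⟩ ∧ dt diffVec ⟨ofList l, mem_of_check hl.1⟩ = k := by
    intro l hl k h1 h2 h3
    refine ⟨⟨hl.2, by rw [dt_base]; exact h1, ?_⟩, by rw [dt_diff]; exact h3⟩
    rw [dt_three, dt_five, dt_base]
    show 4 * ofList l ptA + ∑ i, ofList l i - (4 * ofList l ptA + 4 * ofList l ptB) = 16
    omega
  have hsplit : ∀ y, Third y → ∀ k : ℤ, dt diffVec y = k → k ≠ 32 → y ≠ diffVec := fun y _ k e hk h => by
    subst h; rw [dt_self] at e; exact hk (e.symm.trans (minusVec_norm _ _ (by decide)))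
  intro kn hkn
  simp only [List.mem_cons, List.not_mem_nil, or_false] at hkn
  rcases hkn with rfl | rfl | rfl
  · obtain ⟨h0, h0k⟩ := hb _ wit_checks.1 0 (by decide +kernel) (by decide +kernel) (by decide +kernel)
    have hcls : ∀ y, Third y → dt diffVec y = 0 → ∃ q ∈ params false false (fun _ => {none}),
        (y : GolayPt → ℤ) = shapeA q := fun y hy e => by
      rcases (third_cases hy).resolve_left (hsplit y hy 0 e (by norm_num)) with ⟨_, h⟩ | ⟨h, _⟩ | ⟨h, _⟩
      · exact h
      all_goals omega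
    have hinj : ∀ q ∈ params false false (fun _ => {none}), ∀ q' ∈ params false false (fun _ => {none}),
        shapeA q = shapeA q' → q = q' := by
      rintro ⟨O, p⟩ hq ⟨O', p'⟩ hq' e
      have hp := (mem_params.1 hq).2.2.2
      have hp' := (mem_params.1 hq').2.2.2
      simp only [Finset.mem_singleton] at hp hp'
      subst hp hp'
      have : O = O' := Finset.ext fun i => by
        have := congrFun e i
        by_cases a : i ∈ O <;> by_cases b : i ∈ O' <;> simp [shapeA, a, b] at this ⊢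
      rw [this]
    obtain ⟨c, t⟩ := class_orbit (by norm_num) hcls hinj transA h0 h0k
    refine ⟨_, h0, h0k, c.trans ?_, t⟩
    rw [card_params (n := 1) fun O _ _ _ => Finset.card_singleton none, mul_one, ← octad_counts.1]
    simp
  · obtain ⟨h0, h0k⟩ := hb _ wit_checks.2.1 16 (by decide +kernel) (by decide +kernel) (by decide +kernel)
    have hcls : ∀ y, Third y → dt diffVec y = 16 → ∃ q ∈ params true true (fun O => (O.erase ptA).erase ptB),
        (y : GolayPt → ℤ) = shapeB q := fun y hy e => by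
      rcases (third_cases hy).resolve_left (hsplit y hy 16 e (by norm_num)) with ⟨h, _⟩ | ⟨_, h⟩ | ⟨h, _⟩
      · omega
      · exact h
      · omega
    have hinj : ∀ q ∈ params true true (fun O => (O.erase ptA).erase ptB),
        ∀ q' ∈ params true true (fun O => (O.erase ptA).erase ptB), shapeB q = shapeB q' → q = q' := by
      rintro ⟨O, p⟩ hq ⟨O', p'⟩ hq' e
      have hp := (mem_params.1 hq).2.2.2
      simp only [Finset.mem_erase] at hp
      have : O = O' := Finset.ext fun i => by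
        have := congrFun e i
        by_cases a : i ∈ O <;> by_cases b : i ∈ O' <;> simp [shapeB, a, b] at this ⊢ <;> split at this <;> simp at this
      subst this
      have := congrFun e p
      have hpp : p = p' := by
        by_contra h
        simp [shapeB, hp.2.2, hp.1, h] at this
      rw [hpp]
    obtain ⟨c, t⟩ := class_orbit (by norm_num) hcls hinj transB h0 h0k
    refine ⟨_, h0, h0k, c.trans ?_, t⟩
    rw [card_params (n := 6) fun O hO a b => ?_]
    · simp only [beq_true]; rw [octad_counts.2.1]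
    · simp only [decide_eq_true_eq] at a b
      rw [Finset.card_erase_of_mem (Finset.mem_erase.2 ⟨by decide, b⟩), Finset.card_erase_of_mem a, card_octad hO]
  · obtain ⟨h0, h0k⟩ := hb _ wit_checks.2.2 8 (by decide +kernel) (by decide +kernel) (by decide +kernel)
    have hcls : ∀ y, Third y → dt diffVec y = 8 → ∃ q ∈ params false true (fun O => O.erase ptB),
        (y : GolayPt → ℤ) = shapeC q := fun y hy e => by
      rcases (third_cases hy).resolve_left (hsplit y hy 8 e (by norm_num)) with ⟨h, _⟩ | ⟨h, _⟩ | ⟨_, h⟩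
      · omega
      · omega
      · exact h
    have hinj : ∀ q ∈ params false true (fun O => O.erase ptB), ∀ q' ∈ params false true (fun O => O.erase ptB),
        shapeC q = shapeC q' → q = q' := by
      rintro ⟨O, p⟩ hq ⟨O', p'⟩ hq' e
      have hp := (mem_params.1 hq).2.2.2
      have hp' := (mem_params.1 hq').2.2.2
      simp only [Finset.mem_erase] at hp hp'
      have hpp : p = p' := by
        by_contra h
        have := congrFun e p
        by_cases b : p ∈ O' <;> simp [shapeC, h, b] at this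
      subst hpp
      have : O = O' := Finset.ext fun i => by
        by_cases h : i = p
        · subst h; exact iff_of_true hp.2 hp'.2
        · have := congrFun e i
          by_cases a : i ∈ O <;> by_cases b : i ∈ O' <;> simp [shapeC, h, a, b] at this ⊢
      rw [this]
    obtain ⟨c, t⟩ := class_orbit (by norm_num) hcls hinj transC h0 h0k
    refine ⟨_, h0, h0k, c.trans ?_, t⟩
    rw [card_params (n := 7) fun O hO a b => ?_]
    · simp only [beq_true, beq_false]; rw [octad_counts.2.2]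
    · simp only [decide_eq_true_eq] at b
      rw [Finset.card_erase_of_mem b, card_octad hO]

/-- The pairs `(2025, suborbits)` for any triangle. -/
theorem thirds {v w : leechLattice} (hv : nm v = 32) (hw : nm w = 32) (hvw : dt v w = -8) :
    {x : leechLattice | nm x = 32 ∧ dt v x = 0 ∧ dt w x = 16}.ncard = 2025 ∧
    (∀ x x' : leechLattice, (nm x = 32 ∧ dt v x = 0 ∧ dt w x = 16) → (nm x' = 32 ∧ dt v x' = 0 ∧ dt w x' = 16) →
      ∃ g : Co0, g • v = v ∧ g • w = w ∧ g • x = x') ∧
    ∀ x : leechLattice, (nm x = 32 ∧ dt v x = 0 ∧ dt w x = 16) →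
      ∀ kn ∈ [((0 : ℤ), 330), (16, 462), (8, 1232)],
      ∃ y, (nm y = 32 ∧ dt v y = 0 ∧ dt w y = 16) ∧
        (MulAction.orbit ↥(MulAction.stabilizer ↥Co0 v ⊓ MulAction.stabilizer ↥Co0 w ⊓ MulAction.stabilizer ↥Co0 x)
          y).ncard = kn.2 := by
  have key : ∀ {v w : leechLattice}, nm v = 32 → nm w = 32 → dt v w = -8 → ∀ x,
      ((nm x = 32 ∧ dt v x = 0 ∧ dt w x = 16) ↔
        (nm (x - w) = 32 ∧ dt w (x - w) = -16 ∧ dt v (x - w) = 8)) := by
    intro v w hv hw hvw x
    have e := nm_sub x w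
    rw [dt_sub, dt_sub, dt_self, e, dt_comm x w]
    omega
  refine ⟨?_, ?_, ?_⟩
  · rw [← (count_c hw hv ((dt_comm _ _).trans hvw)).1]
    refine Set.ncard_congr (fun x _ => x - w) (fun x hx => (key hv hw hvw x).1 hx)
      (fun a b _ _ e => sub_left_injective e) fun c hc => ⟨c + w, ?_, add_sub_cancel_right _ _⟩
    refine (key hv hw hvw _).2 ?_
    rw [add_sub_cancel_right]; exact hc
  · intro x x' hx hx'
    obtain ⟨a1, a2, a3⟩ := (key hv hw hvw x).1 hx
    obtain ⟨b1, b2, b3⟩ := (key hv hw hvw x').1 hx'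
    obtain ⟨g, gw, gc, gv⟩ := trans_tri hw a1 hv hw b1 hv (Or.inl rfl) a2 b2 ((dt_comm _ _).trans hvw)
      ((dt_comm _ _).trans hvw) ((dt_comm _ _).trans a3) ((dt_comm _ _).trans b3)
    refine ⟨g, gv, gw, ?_⟩
    rw [co0_sub, gw] at gc
    exact sub_left_injective gc
  · intro x hx kn hkn
    obtain ⟨h0, h1, h2⟩ : nm threeVec = 32 ∧ dt baseVec threeVec = -8 ∧
        (nm diffVec = 32 ∧ dt baseVec diffVec = 0 ∧ dt threeVec diffVec = 16) := by
      have e1 : dt fiveVec baseVec = 24 := base_is_split.2.1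
      have e2 : dt diffVec baseVec = 0 := base_is_split.2.2
      have nd : nm diffVec = 32 := minusVec_norm _ _ (by decide)
      have nb : nm baseVec = 32 := baseVec_norm
      have n5 : nm fiveVec = 48 := five_check.2
      refine ⟨by rw [threeVec, nm_sub]; omega, ?_, nd, by rw [dt_comm]; exact e2, ?_⟩
      · rw [threeVec, dt_sub, dt_self, dt_comm baseVec fiveVec]; omega
      · rw [dt_three, dt_comm baseVec diffVec, e2, five_diff]; norm_num
    obtain ⟨a1, a2, a3⟩ := (key hv hw hvw x).1 hx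
    obtain ⟨b1, b2, b3⟩ := (key baseVec_norm h0 h1 diffVec).1 h2
    obtain ⟨g, gw, gc, gv⟩ := trans_tri hw a1 hv h0 b1 baseVec_norm (Or.inl rfl) a2 b2 ((dt_comm _ _).trans hvw)
      ((dt_comm _ _).trans h1) ((dt_comm _ _).trans a3) ((dt_comm _ _).trans b3)
    have gx : g • x = diffVec := by
      rw [co0_sub, gw] at gc
      exact sub_left_injective gc
    have tr : ∀ y, ((nm y = 32 ∧ dt v y = 0 ∧ dt w y = 16) ↔ Third (g • y)) ∧ dt x y = dt diffVec (g • y) := by
      intro y
      simp only [Third, nm, dt]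
      rw [co0_norm, ← gv, ← gw, ← gx, co0_dot, co0_dot, co0_dot]
      exact ⟨Iff.rfl, rfl⟩
    obtain ⟨y0, hy0, hk0, hcount, htr⟩ := third_suborbits kn hkn
    refine ⟨g⁻¹ • y0, (tr _).1.2 (by rw [smul_inv_smul]; exact hy0), ?_⟩
    rw [← hcount, ← ncard_smul g (fun y => (nm y = 32 ∧ dt v y = 0 ∧ dt w y = 16) ∧ dt x y = kn.1) _
      fun y => and_congr (tr y).1 (by rw [(tr y).2])]
    congr 1
    ext y
    rw [MulAction.mem_orbit_iff, Set.mem_ofPred_eq]
    constructor
    · rintro ⟨⟨h, hh⟩, e⟩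
      obtain ⟨⟨sv, sw⟩, sx⟩ : ((h • v = v) ∧ (h • w = w)) ∧ h • x = x := by
        simpa only [Subgroup.mem_inf, MulAction.mem_stabilizer_iff] using hh
      change h • (g⁻¹ • y0) = y at e
      have p : (nm (g⁻¹ • y0) = 32 ∧ dt v (g⁻¹ • y0) = 0 ∧ dt w (g⁻¹ • y0) = 16) ∧ dt x (g⁻¹ • y0) = kn.1 :=
        ⟨(tr _).1.2 (by rw [smul_inv_smul]; exact hy0), by rw [(tr _).2, smul_inv_smul]; exact hk0⟩
      simp only [nm, dt] at p ⊢
      rw [← co0_norm h, ← co0_dot h v, ← co0_dot h w, ← co0_dot h x, sv, sw, sx, e] at p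
      exact p
    · rintro ⟨hy, hk⟩
      obtain ⟨k, k1, k2, k3, k4⟩ := htr (g • y) ((tr y).1.1 hy) (by rw [← (tr y).2]; exact hk)
      have kt : k • threeVec = threeVec := by rw [threeVec, co0_sub, k1, k3]
      refine ⟨⟨g⁻¹ * k * g, ?_⟩, ?_⟩
      · simp only [Subgroup.mem_inf, MulAction.mem_stabilizer_iff, mul_smul, gv, gw, gx, k2, k3, kt]
        exact ⟨⟨inv_smul_eq_iff.2 gv.symm, inv_smul_eq_iff.2 gw.symm⟩, inv_smul_eq_iff.2 gx.symm⟩
      · show (g⁻¹ * k * g) • (g⁻¹ • y0) = y
        rw [mul_smul, mul_smul, smul_inv_smul, k4, inv_smul_smul]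

end Cfsg.Lib.Leech.Tri
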